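import Cfsg.Agent.H24.Q5.Mat

/-!
# S5211, block q = 5, (M4): uniqueness of the extraspecial group and of the two groups above it (helper29)

`X k` (`k < 16`): representatives of `R₀ / ±1`; `s i` (`i < 5`): the five classes of noncentral involutions.
-/

set_option autoImplicit false
set_option maxRecDepth 100000

namespace Cfsg.Agent.H29.Q5M

open Matrix Cfsg.Agent.H24.Q5 Equiv

/-- representatives of `R₀ / ±1` -/
def X : Fin 16 → M5 := ![!![1, 0, 0, 0; 0, 1, 0, 0; 0, 0, 1, 0; 0, 0, 0, 1],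
  !![0, 0, 1, 0; 0, 0, 0, 3; 1, 0, 0, 0; 0, 2, 0, 0],
  !![3, 1, 4, 0; 3, 2, 0, 2; 1, 0, 2, 2; 0, 2, 4, 3],
  !![1, 0, 2, 2; 0, 1, 2, 4; 3, 1, 4, 0; 1, 4, 0, 4],
  !![2, 3, 4, 0; 1, 3, 0, 2; 1, 0, 3, 1; 0, 2, 3, 2],
  !![1, 0, 3, 1; 0, 1, 4, 1; 2, 3, 4, 0; 2, 1, 0, 4],
  !![1, 2, 4, 1; 3, 4, 3, 3; 4, 2, 1, 1; 1, 2, 1, 4],
  !![4, 2, 1, 1; 3, 1, 3, 2; 1, 2, 4, 1; 1, 3, 1, 1],
  !![2, 2, 4, 0; 4, 3, 0, 2; 1, 0, 3, 4; 0, 2, 2, 2],
  !![1, 0, 3, 4; 0, 1, 1, 1; 2, 2, 4, 0; 3, 1, 0, 4],
  !![4, 4, 4, 3; 4, 1, 1, 3; 4, 1, 4, 2; 2, 2, 3, 1],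
  !![4, 1, 4, 2; 1, 1, 4, 3; 4, 4, 4, 3; 3, 2, 2, 1],
  !![0, 3, 0, 2; 4, 0, 3, 0; 0, 4, 0, 4; 1, 0, 3, 0],
  !![0, 4, 0, 4; 3, 0, 4, 0; 0, 3, 0, 2; 3, 0, 1, 0],
  !![4, 0, 3, 2; 0, 4, 2, 1; 2, 1, 1, 0; 1, 1, 0, 1],
  !![2, 1, 1, 0; 3, 3, 0, 3; 4, 0, 3, 2; 0, 3, 4, 2]]

/-- the signs of the squares -/
def e : Fin 16 → ZMod 5 := ![1, 1, 1, 4, 1, 4, 4, 4, 1, 4, 4, 4, 4, 4, 4, 1]

theorem X_sq : ∀ k, X k * (e k • X k) = 1 := by decide +kernel

theorem X_sq' : ∀ k, (e k • X k) * X k = 1 := by decide +kernel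

/-- the elements as units -/
def x (k : Fin 16) : M5ˣ := ⟨X k, e k • X k, X_sq k, X_sq' k⟩

theorem x_val (k : Fin 16) : (x k : M5) = X k := rfl

theorem x_mem {R : Subgroup M5ˣ} (h1 : x 1 ∈ R) (h2 : x 2 ∈ R) (h4 : x 4 ∈ R) (h8 : x 8 ∈ R) : ∀ k, x k ∈ R := by
  have e0 : x 0 = 1 := Units.ext (by decide +kernel)
  have e3 : x 3 = x 1 * x 2 := Units.ext (by decide +kernel)
  have e5 : x 5 = x 1 * x 4 := Units.ext (by decide +kernel)
  have e6 : x 6 = x 2 * x 4 := Units.ext (by decide +kernel)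
  have e7 : x 7 = x 1 * x 6 := Units.ext (by decide +kernel)
  have e9 : x 9 = x 1 * x 8 := Units.ext (by decide +kernel)
  have e10 : x 10 = x 2 * x 8 := Units.ext (by decide +kernel)
  have e11 : x 11 = x 1 * x 10 := Units.ext (by decide +kernel)
  have e12 : x 12 = x 4 * x 8 := Units.ext (by decide +kernel)
  have e13 : x 13 = x 1 * x 12 := Units.ext (by decide +kernel)
  have e14 : x 14 = x 2 * x 12 := Units.ext (by decide +kernel)
  have e15 : x 15 = x 1 * x 14 := Units.ext (by decide +kernel)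
  have m6 : x 6 ∈ R := e6 ▸ R.mul_mem h2 h4
  have m10 : x 10 ∈ R := e10 ▸ R.mul_mem h2 h8
  have m12 : x 12 ∈ R := e12 ▸ R.mul_mem h4 h8
  have m14 : x 14 ∈ R := e14 ▸ R.mul_mem h2 m12
  intro k
  fin_cases k
  · change x 0 ∈ R
    rw [e0]; exact R.one_mem
  · exact h1
  · exact h2
  · exact e3 ▸ R.mul_mem h1 h2
  · exact h4
  · exact e5 ▸ R.mul_mem h1 h4
  · exact m6
  · exact e7 ▸ R.mul_mem h1 m6
  · exact h8
  · exact e9 ▸ R.mul_mem h1 h8
  · exact m10
  · exact e11 ▸ R.mul_mem h1 m10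
  · exact m12
  · exact e13 ▸ R.mul_mem h1 m12
  · exact m14
  · exact e15 ▸ R.mul_mem h1 m14

theorem X_inj : ∀ j k, X j = X k → j = k := by decide +kernel

theorem X_neg : ∀ j k, X j ≠ - X k := by decide +kernel

/-- the 32 elements -/
def y (a : Fin 16 × Bool) : M5ˣ := if a.2 then x a.1 else - x a.1

theorem y_inj : Function.Injective y := by
  rintro ⟨j, b⟩ ⟨k, c⟩ h
  cases b <;> cases c
  · have h1 : (- x j : M5ˣ) = - x k := h
    have h2 := X_inj j k (congrArg Units.val (neg_injective h1))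
    rw [h2]
  · have h1 : (- x j : M5ˣ) = x k := h
    exact absurd (congrArg Units.val h1).symm (X_neg k j)
  · have h1 : (x j : M5ˣ) = - x k := h
    exact absurd (congrArg Units.val h1) (X_neg j k)
  · have h1 : (x j : M5ˣ) = x k := h
    have h2 := X_inj j k (congrArg Units.val h1)
    rw [h2]

/-- a subgroup of order 32 containing everything is the explicit one -/
theorem eq_y {R : Subgroup M5ˣ} (hcard : Nat.card R = 32) (hneg : -1 ∈ R) (hx : ∀ k, x k ∈ R) :
    ∀ g ∈ R, ∃ k, g = x k ∨ g = - x k := by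
  have : Finite R := Nat.finite_of_card_ne_zero (by rw [hcard]; norm_num)
  have hy : ∀ a, y a ∈ R := by
    rintro ⟨k, b⟩
    cases b
    · have h1 : (- x k : M5ˣ) = -1 * x k := (neg_one_mul _).symm
      change - x k ∈ R
      rw [h1]
      exact R.mul_mem hneg (hx k)
    · exact hx k
  let f : Fin 16 × Bool → R := fun a => ⟨y a, hy a⟩
  have hf : Function.Injective f := fun a b h => y_inj (congrArg Subtype.val h)
  have hb : Function.Bijective f := hf.bijective_of_nat_card_le (by rw [hcard]; simp)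
  intro g hg
  obtain ⟨⟨k, b⟩, h⟩ := hb.2 ⟨g, hg⟩
  have h1 : y (k, b) = g := congrArg Subtype.val h
  cases b
  · exact ⟨k, Or.inr h1.symm⟩
  · exact ⟨k, Or.inl h1.symm⟩

theorem card_y {R : Subgroup M5ˣ} [Finite R] (hneg : -1 ∈ R) (hx : ∀ k, x k ∈ R) : 32 ≤ Nat.card R := by
  have hy : ∀ a, y a ∈ R := by
    rintro ⟨k, b⟩
    cases b
    · have h1 : (- x k : M5ˣ) = -1 * x k := (neg_one_mul _).symm
      change - x k ∈ R
      rw [h1]
      exact R.mul_mem hneg (hx k)
    · exact hx k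
  let f : Fin 16 × Bool → R := fun a => ⟨y a, hy a⟩
  have hf : Function.Injective f := fun a b h => y_inj (congrArg Subtype.val h)
  have := Nat.card_le_card_of_injective f hf
  simpa using this

/-! ### the first element -/

/-- equality up to sign -/
def E (a b : M5ˣ) : Prop := a = b ∨ a = - b

theorem E.refl (a : M5ˣ) : E a a := Or.inl rfl

theorem E.symm {a b : M5ˣ} (h : E a b) : E b a := by
  rcases h with h | h
  · exact Or.inl h.symm
  · exact Or.inr (by rw [h, neg_neg])

theorem E.trans {a b c : M5ˣ} (h : E a b) (h' : E b c) : E a c := by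
  rcases h with rfl | rfl
  · exact h'
  · rcases h' with rfl | rfl
    · exact Or.inr rfl
    · exact Or.inl (neg_neg _)

theorem E.mul {a b c d : M5ˣ} (h : E a b) (h' : E c d) : E (a * c) (b * d) := by
  rcases h with rfl | rfl <;> rcases h' with rfl | rfl
  · exact Or.inl rfl
  · exact Or.inr (mul_neg _ _)
  · exact Or.inr (neg_mul _ _)
  · exact Or.inl (neg_mul_neg _ _)

theorem inv_E {r : M5ˣ} (h : r ^ 2 = 1 ∨ r ^ 2 = -1) : E r⁻¹ r := by
  rcases h with h | h
  · left
    rw [inv_eq_iff_mul_eq_one, ← sq, h]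
  · right
    rw [inv_eq_iff_mul_eq_one, mul_neg, ← sq, h, neg_neg]

theorem exists_fix {R : Subgroup M5ˣ} (hcard : Nat.card R = 32) (hsq : ∀ r ∈ R, r ^ 2 = 1 ∨ r ^ 2 = -1)
    (hh : ∀ r ∈ R, gh2 * r * gh2⁻¹ ∈ R) :
    ∃ r ∈ R, ¬ E r 1 ∧ E (gh2 * r * gh2⁻¹) r := by
  have : Finite R := Nat.finite_of_card_ne_zero (by rw [hcard]; norm_num)
  have h4 : gh2 ^ 4 = 1 := Units.ext (by
    rw [Units.val_pow_eq_pow_val]
    exact mh24)
  -- an element outside `±1`
  have h1 : ∃ r ∈ R, ¬ E r 1 := by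
    by_contra hcon
    push Not at hcon
    have hsub : (R : Set M5ˣ) ⊆ {1, -1} := by
      intro r hr
      rcases hcon r hr with h | h
      · exact Or.inl h
      · exact Or.inr h
    have h2 := Set.ncard_le_ncard hsub (Set.toFinite _)
    have h3 : ({1, -1} : Set M5ˣ).ncard ≤ 2 := (Set.ncard_insert_le _ _).trans (by rw [Set.ncard_singleton])
    have h5 : (R : Set M5ˣ).ncard = 32 := hcard
    omega
  -- `gh2 ^ 2`
  have h2 : ∃ r ∈ R, ¬ E r 1 ∧ E (gh2 ^ 2 * r * (gh2 ^ 2)⁻¹) r := by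
    obtain ⟨r, hr, hr1⟩ := h1
    have hT : ∀ r ∈ R, gh2 ^ 2 * r * (gh2 ^ 2)⁻¹ ∈ R := by
      intro r hr
      have e1 : gh2 ^ 2 * r * (gh2 ^ 2)⁻¹ = gh2 * (gh2 * r * gh2⁻¹) * gh2⁻¹ := by
        rw [sq, _root_.mul_inv_rev]
        simp only [mul_assoc]
      rw [e1]
      exact hh _ (hh _ hr)
    by_cases h : E (gh2 ^ 2 * r * (gh2 ^ 2)⁻¹) r
    · exact ⟨r, hr, hr1, h⟩
    · have hm : gh2 ^ 2 * r * (gh2 ^ 2)⁻¹ * r⁻¹ ∈ R := R.mul_mem (hT r hr) (R.inv_mem hr)
      refine ⟨_, hm, ?_, ?_⟩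
      · intro h5
        have h6 := h5.mul (E.refl r)
        rw [inv_mul_cancel_right, one_mul] at h6
        exact h h6
      · have e2 : gh2 ^ 2 * (gh2 ^ 2 * r * (gh2 ^ 2)⁻¹ * r⁻¹) * (gh2 ^ 2)⁻¹ = (gh2 ^ 2 * r * (gh2 ^ 2)⁻¹ * r⁻¹)⁻¹ := by
          have e3 : gh2 ^ 2 * (gh2 ^ 2 * r * (gh2 ^ 2)⁻¹ * r⁻¹) * (gh2 ^ 2)⁻¹ =
            gh2 ^ 4 * r * (gh2 ^ 4)⁻¹ * (gh2 ^ 2 * r⁻¹ * (gh2 ^ 2)⁻¹) := by group
          rw [e3, h4]
          group
        rw [e2]
        exact inv_E (hsq _ hm)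
  obtain ⟨r, hr, hr1, hr2⟩ := h2
  by_cases h : E (gh2 * r * gh2⁻¹) r
  · exact ⟨r, hr, hr1, h⟩
  · have hm : gh2 * r * gh2⁻¹ * r⁻¹ ∈ R := R.mul_mem (hh r hr) (R.inv_mem hr)
    refine ⟨_, hm, ?_, ?_⟩
    · intro h5
      have h6 := h5.mul (E.refl r)
      rw [inv_mul_cancel_right, one_mul] at h6
      exact h h6
    · have e2 : gh2 * (gh2 * r * gh2⁻¹ * r⁻¹) * gh2⁻¹ = (gh2 ^ 2 * r * (gh2 ^ 2)⁻¹) * (gh2 * r * gh2⁻¹)⁻¹ := by
        rw [sq]
        group
      rw [e2]
      have h7 := hr2.mul (E.refl (gh2 * r * gh2⁻¹)⁻¹)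
      have e3 : r * (gh2 * r * gh2⁻¹)⁻¹ = (gh2 * r * gh2⁻¹ * r⁻¹)⁻¹ := by group
      rw [e3] at h7
      exact h7.trans (inv_E (hsq _ hm))

/-- diagonal matrices -/
def dg (a b c d : ZMod 5) : M5 := !![a, 0, 0, 0; 0, b, 0, 0; 0, 0, c, 0; 0, 0, 0, d]

/-- matrices exchanging `e₀` with `e₂` and `e₁` with `e₃` -/
def ad (a b c d : ZMod 5) : M5 := !![0, 0, a, 0; 0, 0, 0, b; c, 0, 0, 0; 0, d, 0, 0]

/-- the conditions on the first element -/
abbrev Good (m : M5) : Prop := (m * m = 1 ∨ m * m = -1) ∧ mᵀ * Om * m = Om ∧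
  (m * (mA * m * mA ^ 4) = (mA * m * mA ^ 4) * m ∨ m * (mA * m * mA ^ 4) = -((mA * m * mA ^ 4) * m)) ∧
  (m * (mA ^ 2 * m * mA ^ 3) = (mA ^ 2 * m * mA ^ 3) * m ∨ m * (mA ^ 2 * m * mA ^ 3) = -((mA ^ 2 * m * mA ^ 3) * m))

theorem cand_diag : ∀ a b c d : ZMod 5, Good (dg a b c d) → dg a b c d = 1 ∨ dg a b c d = -1 := by decide +kernel

theorem cand_anti : ∀ a b c d : ZMod 5, Good (ad a b c d) → ad a b c d = X 1 ∨ ad a b c d = - X 1 := by decide +kernel

theorem zero_of (h : Fin 4 → ZMod 5) (c : ZMod 5) {m : M5} (hm : diagonal h * m = c • (m * diagonal h)) {i j : Fin 4}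
    (hij : h i ≠ c * h j) : m i j = 0 := by
  have h1 := congrFun (congrFun hm i) j
  rw [diagonal_mul, Matrix.smul_apply, mul_diagonal, smul_eq_mul] at h1
  have h2 : (h i - c * h j) * m i j = 0 := by linear_combination h1
  have : Fact (Nat.Prime 5) := ⟨by norm_num⟩
  rcases mul_eq_zero.1 h2 with h3 | h3
  · exact absurd (sub_eq_zero.1 h3) hij
  · exact h3

theorem mh2_eq : mh2 = diagonal ![3, 1, 2, 4] := by decide +kernel

/-- **the first element is `± x 1`** -/
theorem first {L R : Subgroup M5ˣ} (hL : Hyp L) (hRL : R ≤ L) (hn : ∀ g ∈ L, ∀ r ∈ R, g * r * g⁻¹ ∈ R)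
    (hcard : Nat.card R = 32) (hneg : -1 ∈ R) (hsq : ∀ r ∈ R, r ^ 2 = 1 ∨ r ^ 2 = -1)
    (hcomm : ∀ r ∈ R, ∀ s ∈ R, r * s = s * r ∨ r * s = - (s * r)) (hh : ∀ r ∈ R, gh2 * r * gh2⁻¹ ∈ R) : x 1 ∈ R := by
  obtain ⟨r, hr, hr1, hr2⟩ := exists_fix hcard hsq hh
  have hA : ∀ k : ℕ, gA ^ k * r * (gA ^ k)⁻¹ ∈ R := fun k => hn _ (L.pow_mem hL.memA k) r hr
  have hAinv : ((gA⁻¹ : M5ˣ) : M5) = mA ^ 4 := rfl
  have hA2 : (((gA ^ 2)⁻¹ : M5ˣ) : M5) = mA ^ 3 := by
    have h5 : gA ^ 5 = 1 := Units.ext (by rw [Units.val_pow_eq_pow_val]; exact mA5)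
    have h6 : (gA ^ 2)⁻¹ = gA ^ 3 := by
      rw [inv_eq_iff_mul_eq_one, ← pow_add]
      exact h5
    rw [h6, Units.val_pow_eq_pow_val]
    rfl
  have hgood : Good (r : M5) := by
    refine ⟨?_, hL.iso r (hRL hr), ?_, ?_⟩
    · rcases hsq r hr with h | h
      · left
        have := congrArg Units.val h
        rwa [sq, Units.val_mul, Units.val_one] at this
      · right
        have := congrArg Units.val h
        rwa [sq, Units.val_mul, Units.val_neg, Units.val_one] at this
    · have h1 := hA 1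
      rw [pow_one] at h1
      rcases hcomm r hr _ h1 with h | h
      · left
        have h2 := congrArg Units.val h
        simp only [Units.val_mul, hAinv] at h2
        exact h2
      · right
        have h2 := congrArg Units.val h
        simp only [Units.val_mul, Units.val_neg, hAinv] at h2
        exact h2
    · have h1 := hA 2
      rcases hcomm r hr _ h1 with h | h
      · left
        have h2 := congrArg Units.val h
        simp only [Units.val_mul, hA2, Units.val_pow_eq_pow_val] at h2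
        exact h2
      · right
        have h2 := congrArg Units.val h
        simp only [Units.val_mul, Units.val_neg, hA2, Units.val_pow_eq_pow_val] at h2
        exact h2
  have key : x 1 = r ∨ x 1 = - r := by
    rcases hr2 with h | h
    · -- diagonal
      exfalso
      rw [mul_inv_eq_iff_eq_mul] at h
      have h3 : mh2 * (r : M5) = (1 : ZMod 5) • ((r : M5) * mh2) := by
        rw [one_smul]
        exact congrArg Units.val h
      rw [mh2_eq] at h3
      have h4 : (r : M5) = dg ((r : M5) 0 0) ((r : M5) 1 1) ((r : M5) 2 2) ((r : M5) 3 3) := by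
        ext i j
        fin_cases i <;> fin_cases j <;> first | rfl | exact zero_of _ _ h3 (by decide +kernel)
      have h5 := cand_diag ((r : M5) 0 0) ((r : M5) 1 1) ((r : M5) 2 2) ((r : M5) 3 3) (by rw [← h4]; exact hgood)
      rw [← h4] at h5
      apply hr1
      rcases h5 with h5 | h5
      · exact Or.inl (Units.ext h5)
      · exact Or.inr (Units.ext h5)
    · -- the other shape
      rw [mul_inv_eq_iff_eq_mul] at h
      have h3 : mh2 * (r : M5) = (-1 : ZMod 5) • ((r : M5) * mh2) := by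
        rw [neg_smul, one_smul, ← neg_mul]
        exact congrArg Units.val h
      rw [mh2_eq] at h3
      have h4 : (r : M5) = ad ((r : M5) 0 2) ((r : M5) 1 3) ((r : M5) 2 0) ((r : M5) 3 1) := by
        ext i j
        fin_cases i <;> fin_cases j <;> first | rfl | exact zero_of _ _ h3 (by decide +kernel)
      have h5 := cand_anti ((r : M5) 0 2) ((r : M5) 1 3) ((r : M5) 2 0) ((r : M5) 3 1) (by rw [← h4]; exact hgood)
      rw [← h4] at h5
      rcases h5 with h5 | h5
      · exact Or.inl (Units.ext h5.symm)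
      · refine Or.inr (Units.ext ?_)
        rw [Units.val_neg, h5, neg_neg]
        rfl
  rcases key with h | h
  · rw [h]; exact hr
  · rw [h, ← neg_one_mul]; exact R.mul_mem hneg hr

/-- all elements lie in `R` -/
theorem all_mem {R : Subgroup M5ˣ} (hn : ∀ r ∈ R, gA * r * gA⁻¹ ∈ R) (h1 : x 1 ∈ R) : ∀ k, x k ∈ R := by
  have e2 : gA * x 1 * gA⁻¹ = x 2 := by
    rw [mul_inv_eq_iff_eq_mul]
    exact Units.ext (by decide +kernel)
  have e4 : gA * x 2 * gA⁻¹ = x 4 := by
    rw [mul_inv_eq_iff_eq_mul]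
    exact Units.ext (by decide +kernel)
  have e8 : gA * x 4 * gA⁻¹ = x 8 := by
    rw [mul_inv_eq_iff_eq_mul]
    exact Units.ext (by decide +kernel)
  have h2 : x 2 ∈ R := e2 ▸ hn _ h1
  have h4 : x 4 ∈ R := e4 ▸ hn _ h2
  have h8 : x 8 ∈ R := e8 ▸ hn _ h4
  exact x_mem h1 h2 h4 h8

/-! ### the permutation action -/

def ix : Fin 5 → Fin 16 := ![1, 2, 4, 8, 15]

/-- `g` maps the class `i` to the class `j` -/
def P (g : M5ˣ) (i j : Fin 5) : Prop := E (g * x (ix i)) (x (ix j) * g)

theorem ix_inj : ∀ i j : Fin 5, (X (ix i) = X (ix j) ∨ X (ix i) = - X (ix j)) → i = j := by decide +kernel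

theorem P.mul {g h : M5ˣ} {i j k : Fin 5} (h1 : P h i j) (h2 : P g j k) : P (g * h) i k := by
  unfold P at *
  have h3 := (E.refl g).mul h1
  have h4 := h2.mul (E.refl h)
  rw [← mul_assoc, ← mul_assoc] at h3
  rw [mul_assoc (x (ix k))] at h4
  exact h3.trans h4

theorem P.inv {g : M5ˣ} {i j : Fin 5} (h : P g i j) : P g⁻¹ j i := by
  unfold P at *
  have h1 := ((E.refl g⁻¹).mul h).mul (E.refl g⁻¹)
  rw [inv_mul_cancel_left, mul_assoc g⁻¹, mul_inv_cancel_right] at h1
  exact h1.symm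

theorem P.unique {g : M5ˣ} {i j k : Fin 5} (h1 : P g i j) (h2 : P g i k) : j = k := by
  unfold P at *
  have h3 := (h1.symm.trans h2).mul (E.refl g⁻¹)
  rw [mul_inv_cancel_right, mul_inv_cancel_right] at h3
  apply ix_inj
  rcases h3 with h | h
  · exact Or.inl (congrArg Units.val h)
  · exact Or.inr (congrArg Units.val h)

theorem P.one (i : Fin 5) : P 1 i i := by
  unfold P
  rw [one_mul, mul_one]
  exact E.refl _

theorem P_A : ∀ i : Fin 5, P gA i (i + 1) := by
  have h : ∀ i : Fin 5, mA * X (ix i) = X (ix (i + 1)) * mA ∨ mA * X (ix i) = - (X (ix (i + 1)) * mA) := by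
    decide +kernel
  intro i
  rcases h i with h | h
  · exact Or.inl (Units.ext h)
  · exact Or.inr (Units.ext h)

def sB : Fin 5 → Fin 5 := ![4, 0, 3, 1, 2]

theorem P_B : ∀ i : Fin 5, P gB i (sB i) := by
  have h : ∀ i : Fin 5, mB * X (ix i) = X (ix (sB i)) * mB ∨ mB * X (ix i) = - (X (ix (sB i)) * mB) := by
    decide +kernel
  intro i
  rcases h i with h | h
  · exact Or.inl (Units.ext h)
  · exact Or.inr (Units.ext h)

/-- the involutions of `R` -/
theorem sq_one : ∀ k : Fin 16, X k * X k = 1 → k = 0 ∨ ∃ j, k = ix j := by decide +kernel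

theorem ix_sq : ∀ j : Fin 5, X (ix j) * X (ix j) = 1 := by decide +kernel

theorem ix_ne : ∀ j : Fin 5, X (ix j) ≠ 1 ∧ X (ix j) ≠ -1 := by decide +kernel

theorem exists_P {L R : Subgroup M5ˣ} (hn : ∀ g ∈ L, ∀ r ∈ R, g * r * g⁻¹ ∈ R) (hx : ∀ k, x k ∈ R)
    (hy : ∀ g ∈ R, ∃ k, g = x k ∨ g = - x k) {g : M5ˣ} (hg : g ∈ L) (i : Fin 5) : ∃ j, P g i j := by
  obtain ⟨k, hk⟩ := hy _ (hn g hg _ (hx (ix i)))
  have hE : E (g * x (ix i) * g⁻¹) (x k) := hk
  have h1 : x (ix i) * x (ix i) = 1 := Units.ext (ix_sq i)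
  have h2 : x k * x k = 1 := by
    have h3 : (g * x (ix i) * g⁻¹) * (g * x (ix i) * g⁻¹) = 1 := by
      have : (g * x (ix i) * g⁻¹) * (g * x (ix i) * g⁻¹) = g * (x (ix i) * x (ix i)) * g⁻¹ := by group
      rw [this, h1, mul_one, mul_inv_cancel]
    rcases hk with h | h
    · rw [h] at h3; exact h3
    · rw [h, neg_mul_neg] at h3; exact h3
  rcases sq_one k (congrArg Units.val h2) with h | ⟨j, h⟩
  · exfalso
    subst h
    have e0 : x 0 = 1 := Units.ext (by decide +kernel)
    rw [e0] at hE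
    have h4 : E (x (ix i)) 1 := by
      have h5 := ((E.refl g⁻¹).mul hE).mul (E.refl g)
      rw [mul_one, inv_mul_cancel, mul_assoc g, inv_mul_cancel_left, inv_mul_cancel_right] at h5
      exact h5
    rcases h4 with h4 | h4
    · exact (ix_ne i).1 (congrArg Units.val h4)
    · exact (ix_ne i).2 (congrArg Units.val h4)
  · subst h
    refine ⟨j, ?_⟩
    unfold P
    have h5 := hE.mul (E.refl g)
    rwa [inv_mul_cancel_right] at h5

/-- the action -/
theorem exists_hom {L : Subgroup M5ˣ} (h : ∀ g ∈ L, ∀ i, ∃ j, P g i j) :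
    ∃ φ : L →* Perm (Fin 5), ∀ (g : L) (i : Fin 5), P g i (φ g i) := by
  classical
  let act : L → Fin 5 → Fin 5 := fun g i => (h g g.2 i).choose
  have hact : ∀ (g : L) (i : Fin 5), P g i (act g i) := fun g i => (h g g.2 i).choose_spec
  let inst : MulAction L (Fin 5) :=
    { smul := act
      one_smul := fun i => (hact 1 i).unique (P.one i)
      mul_smul := fun g k i => (hact (g * k) i).unique ((hact k i).mul (hact g (act k i))) }
  refine ⟨MulAction.toPermHom L (Fin 5), fun g i => ?_⟩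
  exact hact g i

/-- the sixteen sign patterns -/
theorem signs : ∀ b : Fin 4 → Bool, ∃ k : Fin 16, ∀ i : Fin 4,
    if b i then X k * X (ix i.castSucc) = X (ix i.castSucc) * X k
      else X k * X (ix i.castSucc) = - (X (ix i.castSucc) * X k) := by decide +kernel

theorem single_eq : ∀ i j : Fin 4, i ≠ j →
    Matrix.single i j (1 : ZMod 5) = ∑ k : Fin 16, (-(e k * X k j i)) • X k := by decide +kernel

theorem X_iso : ∀ k : Fin 16, (X k)ᵀ * Om * X k = Om := by decide +kernel

theorem E.inv_left {a b : M5ˣ} (h : a * b = b * a) : a⁻¹ * b = b * a⁻¹ := by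
  rw [inv_mul_eq_iff_eq_mul, ← mul_assoc, h, mul_inv_cancel_right]

/-- **the kernel** -/
theorem kernel {g : M5ˣ} (hiso : (g : M5)ᵀ * Om * g = Om) (hP : ∀ i, P g i i) : ∃ k, g = x k ∨ g = - x k := by
  classical
  obtain ⟨k, hk⟩ := signs fun i => decide (g * x (ix i.castSucc) = x (ix i.castSucc) * g)
  obtain ⟨u, hu⟩ : ∃ u, u = (x k)⁻¹ * g := ⟨_, rfl⟩
  have hgu : g = x k * u := by rw [hu, mul_inv_cancel_left]
  have hcomm : ∀ i : Fin 4, u * x (ix i.castSucc) = x (ix i.castSucc) * u := by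
    intro i
    have h1 := hk i
    by_cases hb : g * x (ix i.castSucc) = x (ix i.castSucc) * g
    · rw [if_pos (decide_eq_true hb)] at h1
      have h2 : x k * x (ix i.castSucc) = x (ix i.castSucc) * x k := Units.ext h1
      rw [hu, mul_assoc, hb, ← mul_assoc, E.inv_left h2, mul_assoc]
    · rw [if_neg (by rw [decide_eq_false hb]; exact Bool.false_ne_true)] at h1
      have h2 : x k * x (ix i.castSucc) = - (x (ix i.castSucc) * x k) := Units.ext h1
      have h3 : g * x (ix i.castSucc) = - (x (ix i.castSucc) * g) := by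
        rcases hP i.castSucc with h | h
        · exact absurd h hb
        · exact h
      have h4 : (x k)⁻¹ * x (ix i.castSucc) = - (x (ix i.castSucc) * (x k)⁻¹) := by
        rw [inv_mul_eq_iff_eq_mul, mul_neg, ← mul_assoc, h2, neg_mul, neg_neg, mul_inv_cancel_right]
      rw [hu, mul_assoc, h3, mul_neg, ← mul_assoc, h4, neg_mul, neg_neg, mul_assoc]
  -- all elements commute with `u`
  have hall : ∀ l, x l ∈ Subgroup.centralizer ({u} : Set M5ˣ) := by
    have hm : ∀ i : Fin 4, x (ix i.castSucc) ∈ Subgroup.centralizer ({u} : Set M5ˣ) := by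
      intro i
      rw [Subgroup.mem_centralizer_singleton_iff]
      exact (hcomm i).symm
    exact x_mem (hm 0) (hm 1) (hm 2) (hm 3)
  have hX : ∀ l, Commute (u : M5) (X l) := by
    intro l
    have h1 := Subgroup.mem_centralizer_singleton_iff.1 (hall l)
    exact (congrArg Units.val h1).symm
  have hsc : (u : M5) ∈ Set.range (Matrix.scalar (Fin 4)) := by
    apply Matrix.mem_range_scalar_of_commute_single
    intro i j hij
    rw [single_eq i j hij]
    exact (Commute.sum_right _ _ _ fun l _ => (hX l).smul_right _).symm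
  obtain ⟨c, hc⟩ := hsc
  have hiso' : (u : M5)ᵀ * Om * u = Om := by
    have h1 : ((x k : M5) * (u : M5))ᵀ * Om * ((x k : M5) * (u : M5)) = Om := by
      rw [← Units.val_mul, ← hgu]; exact hiso
    rw [Matrix.transpose_mul, Matrix.mul_assoc, Matrix.mul_assoc, ← Matrix.mul_assoc Om, ← Matrix.mul_assoc (x k : M5)ᵀ,
      ← Matrix.mul_assoc (x k : M5)ᵀ, show (x k : M5)ᵀ * Om * (x k : M5) = Om from X_iso k, ← Matrix.mul_assoc] at h1
    exact h1
  have hcc : c * c = 1 := by
    rw [← hc] at hiso'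
    have h1 := congrFun (congrFun hiso' 0) 3
    rw [Matrix.scalar_apply, Matrix.diagonal_transpose, Matrix.mul_diagonal, Matrix.diagonal_mul] at h1
    have h2 : Om 0 3 = 1 := rfl
    rw [h2, mul_one] at h1
    exact h1
  have hdec : ∀ c : ZMod 5, c * c = 1 → c = 1 ∨ c = -1 := by decide
  have hc2 := hdec c hcc
  refine ⟨k, ?_⟩
  rcases hc2 with h | h
  · left
    have h1 : u = 1 := Units.ext (by rw [← hc, h, map_one]; rfl)
    rw [hgu, h1, mul_one]
  · right
    have h1 : u = -1 := Units.ext (by rw [← hc, h, map_neg, map_one]; rfl)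
    rw [hgu, h1, mul_neg, mul_one]

/-! ### the two groups -/

theorem order_A : orderOf gA = 5 := by
  have : Fact (Nat.Prime 5) := ⟨by norm_num⟩
  refine orderOf_eq_prime (Units.ext (by rw [Units.val_pow_eq_pow_val]; exact mA5)) fun h => ?_
  exact absurd (congrArg Units.val h) (by decide +kernel)

theorem x_mem_LR : ∀ k, x k ∈ LR := by
  have hA : gA ∈ LR := Subgroup.subset_closure (by simp)
  have hR : gR ∈ LR := Subgroup.subset_closure (by simp)
  apply all_mem fun r hr => LR.mul_mem (LR.mul_mem hA hr) (LR.inv_mem hA)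
  have h1 : x 1 = gA * gR * gA * gR * gA ^ 4 * gR := Units.ext (by decide +kernel)
  rw [h1]
  exact LR.mul_mem (LR.mul_mem (LR.mul_mem (LR.mul_mem (LR.mul_mem hA hR) hA) hR) (LR.pow_mem hA 4)) hR

theorem x_mem_LB : ∀ k, x k ∈ LB := by
  have hA : gA ∈ LB := Subgroup.subset_closure (by simp)
  have hB : gB ∈ LB := Subgroup.subset_closure (by simp)
  apply all_mem fun r hr => LB.mul_mem (LB.mul_mem hA hr) (LB.inv_mem hA)
  have h1 : x 1 = gB * gA ^ 2 * gB ^ 2 * gA ^ 2 * gB := Units.ext (by decide +kernel)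
  rw [h1]
  exact LB.mul_mem (LB.mul_mem (LB.mul_mem (LB.mul_mem hB (LB.pow_mem hA 2)) (LB.pow_mem hB 2)) (LB.pow_mem hA 2)) hB

theorem neg_mem_of {K : Subgroup M5ˣ} (h : ∀ k, x k ∈ K) : -1 ∈ K := by
  have h1 : (-1 : M5ˣ) = x 3 * x 3 := Units.ext (by decide +kernel)
  rw [h1]
  exact K.mul_mem (h 3) (h 3)

theorem le_of {R K : Subgroup M5ˣ} (hy : ∀ g ∈ R, ∃ k, g = x k ∨ g = - x k) (h : ∀ k, x k ∈ K) : R ≤ K := by
  intro g hg
  obtain ⟨k, hk | hk⟩ := hy g hg
  · rw [hk]; exact h k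
  · rw [hk, ← neg_one_mul]; exact K.mul_mem (neg_mem_of h) (h k)

theorem case160 {L R : Subgroup M5ˣ} (hA : gA ∈ L) (hRL : R ≤ L) (hcardR : Nat.card R = 32)
    (hx : ∀ k, x k ∈ R) (hy : ∀ g ∈ R, ∃ k, g = x k ∨ g = - x k) (hcard : Nat.card L = 160) : L = LR := by
  have : Finite L := Nat.finite_of_card_ne_zero (by rw [hcard]; norm_num)
  have hle : LR ≤ L := by
    unfold LR
    rw [Subgroup.closure_le]
    rintro g (rfl | rfl)
    · exact hA
    · have h1 : gR = x 9 * gA ^ 3 := Units.ext (by decide +kernel)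
      rw [h1]
      exact L.mul_mem (hRL (hx 9)) (L.pow_mem hA 3)
  have : Finite LR := Finite.of_injective _ (Subgroup.inclusion_injective hle)
  have h32 : 32 ∣ Nat.card LR := hcardR ▸ Subgroup.card_dvd_of_le (le_of hy x_mem_LR)
  have h5 : 5 ∣ Nat.card LR := by
    have hAm : gA ∈ LR := Subgroup.subset_closure (by simp)
    have h1 : orderOf (⟨gA, hAm⟩ : LR) ∣ Nat.card LR := orderOf_dvd_natCard _
    rwa [Subgroup.orderOf_mk, order_A] at h1
  have h160 : 160 ∣ Nat.card LR := (show Nat.Coprime 32 5 by norm_num).mul_dvd_of_dvd_of_dvd h32 h5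
  have hpos : 0 < Nat.card LR := Nat.card_pos
  exact (Subgroup.eq_of_le_of_card_ge hle (by rw [hcard]; exact Nat.le_of_dvd hpos h160)).symm

def sAp : Perm (Fin 5) := ⟨fun i => i + 1, fun i => i - 1, by decide, by decide⟩

def sBp : Perm (Fin 5) := ⟨sB, ![1, 3, 4, 2, 0], by decide, by decide⟩

/-- the value of a word -/
def ev (w : List Bool) : Perm (Fin 5) := (w.map fun b => if b then sAp else sBp).prod

def words : List (List Bool) := [[], [true], [false], [true, true], [true, false], [false, true], [false, false], [true, true, true], [true, true, false], [true, false, true], [true, false, false], [false, true, true], [false, true, false], [false, false, true], [false, false, false], [true, true, true, true], [true, true, true, false], [true, true, false, true], [true, true, false, false], [true, false, true, true], [true, false, true, false], [true, false, false, true], [true, false, false, false], [false, true, true, true], [false, true, true, false], [false,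 true, false, true], [false, true, false, false], [false, false, true, true], [false, false, true, false], [false, false, false, true], [false, false, false, false], [true, true, true, true, false], [true, true, true, false, true], [true, true, true, false, false], [true, true, false, false, true], [true, true, false, false, false], [true, false, true, true, true], [true, false, true, true, false], [true, false, false, true, true], [true, false, false, true, false], [true, false, false, false, true], [true, false, false, false, false], [false, true, true, false, true], [false, true, true, false, false], [false, true, false, false, true], [false, true, false, false, false], [false, false, true, true, true], [false, false, true, true, false], [false, false, false, true, true], [false, false, false, true, false], [true, true, true, true, false, true], [true, true, true, true, false, false], [true, true, false, false, false, true], [true, true, false, false, false,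 false], [true, false, false, false, true, true], [true, false, false, false, true, false], [false, true, false, false, false, true], [false, true, false, false, false, false], [true, true, false, false, false, true, true], [true, true, false, false, false, true, false]]

theorem card_words : (words.map ev).toFinset.card = 60 := by decide +kernel

theorem card_ge {K : Subgroup (Perm (Fin 5))} (hA : sAp ∈ K) (hB : sBp ∈ K) : 60 ≤ Nat.card K := by
  have hsub : ((words.map ev).toFinset : Set (Perm (Fin 5))) ⊆ K := by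
    intro g hg
    rw [Finset.mem_coe, List.mem_toFinset, List.mem_map] at hg
    obtain ⟨w, -, rfl⟩ := hg
    unfold ev
    apply K.list_prod_mem
    intro h hh
    rw [List.mem_map] at hh
    obtain ⟨b, -, rfl⟩ := hh
    cases b
    · exact hB
    · exact hA
  have h1 := Set.ncard_le_ncard hsub (Set.toFinite _)
  rw [Set.ncard_coe_finset, card_words] at h1
  exact h1

theorem sign_B : sBp ∈ alternatingGroup (Fin 5) := by
  rw [Equiv.Perm.mem_alternatingGroup]
  decide +kernel

/-- the kernel of the action -/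
theorem ker_card {K R : Subgroup M5ˣ} (hRK : R ≤ K) (hcardR : Nat.card R = 32)
    (hK : ∀ g ∈ K, (g : M5)ᵀ * Om * g = Om) (hx : ∀ k, x k ∈ R)
    (hneg : -1 ∈ R) (hcomm : ∀ r ∈ R, ∀ s ∈ R, r * s = s * r ∨ r * s = - (s * r)) (φ : K →* Perm (Fin 5))
    (hφ : ∀ (g : K) (i : Fin 5), P g i (φ g i)) : Nat.card K = 32 * Nat.card φ.range := by
  have hker : φ.ker = R.subgroupOf K := by
    ext g
    rw [MonoidHom.mem_ker, Subgroup.mem_subgroupOf]
    constructor
    · intro hg
      have hP : ∀ i, P (g : M5ˣ) i i := by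
        intro i
        have := hφ g i
        rwa [hg, Perm.one_apply] at this
      obtain ⟨k, hk | hk⟩ := kernel (hK g g.2) hP
      · rw [hk]; exact hx k
      · rw [hk, ← neg_one_mul]; exact R.mul_mem hneg (hx k)
    · intro hg
      ext i
      have h1 : P (g : M5ˣ) i i := hcomm _ hg _ (hx _)
      rw [(hφ g i).unique h1, Perm.one_apply]
  have h1 := φ.ker.card_mul_index
  rw [Subgroup.index_ker, hker] at h1
  rw [← h1, ← hcardR]
  congr 1
  exact Nat.card_congr (Subgroup.subgroupOfEquivOfLe hRK).toEquiv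

theorem iso_mul {g h : M5ˣ} (hg : (g : M5)ᵀ * Om * g = Om) (hh : (h : M5)ᵀ * Om * h = Om) :
    ((g * h : M5ˣ) : M5)ᵀ * Om * (g * h : M5ˣ) = Om := by
  rw [Units.val_mul, Matrix.transpose_mul]
  calc (h : M5)ᵀ * (g : M5)ᵀ * Om * ((g : M5) * h) = (h : M5)ᵀ * ((g : M5)ᵀ * Om * g) * h := by
        simp only [Matrix.mul_assoc]
    _ = Om := by rw [hg, hh]

theorem case1920 {L R : Subgroup M5ˣ} (hL : Hyp L) (hRL : R ≤ L) (hn : ∀ g ∈ L, ∀ r ∈ R, g * r * g⁻¹ ∈ R)
    (hcardR : Nat.card R = 32) (hneg : -1 ∈ R)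
    (hcomm : ∀ r ∈ R, ∀ s ∈ R, r * s = s * r ∨ r * s = - (s * r))
    (hx : ∀ k, x k ∈ R) (hy : ∀ g ∈ R, ∃ k, g = x k ∨ g = - x k) (hcard : Nat.card L = 1920) : L = LB := by
  have : Finite L := Nat.finite_of_card_ne_zero (by rw [hcard]; norm_num)
  obtain ⟨φ, hφ⟩ := exists_hom fun g hg i => exists_P hn hx hy hg i
  have h1 := ker_card hRL hcardR hL.iso hx hneg hcomm φ hφ
  rw [hcard] at h1
  have h60 : Nat.card φ.range = 60 := by omega
  have hidx : φ.range.index = 2 := by
    have h2 := φ.range.card_mul_index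
    rw [h60, Nat.card_perm, Nat.card_fin] at h2
    have h3 : Nat.factorial 5 = 120 := rfl
    omega
  have hrange : φ.range = alternatingGroup (Fin 5) := Equiv.Perm.eq_alternatingGroup_of_index_eq_two hidx
  have hB : gB ∈ L := by
    have h2 : sBp ∈ φ.range := by rw [hrange]; exact sign_B
    obtain ⟨g, hg⟩ := h2
    have hP : ∀ i, P ((g : M5ˣ)⁻¹ * gB) i i := by
      intro i
      have h3 := hφ g i
      rw [hg] at h3
      exact (P_B i).mul h3.inv
    have hiso : (((g : M5ˣ)⁻¹ * gB : M5ˣ) : M5)ᵀ * Om * ((g : M5ˣ)⁻¹ * gB : M5ˣ) = Om :=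
      iso_mul (hL.iso _ (L.inv_mem g.2)) (by decide +kernel)
    have hm : (g : M5ˣ)⁻¹ * gB ∈ L := by
      obtain ⟨k, hk | hk⟩ := kernel hiso hP
      · rw [hk]; exact hRL (hx k)
      · rw [hk, ← neg_one_mul]; exact hRL (R.mul_mem hneg (hx k))
    have h4 := L.mul_mem g.2 hm
    rwa [mul_inv_cancel_left] at h4
  have hle : LB ≤ L := by
    unfold LB
    rw [Subgroup.closure_le]
    rintro g (rfl | rfl)
    · exact hL.memA
    · exact hB
  have : Finite LB := Finite.of_injective _ (Subgroup.inclusion_injective hle)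
  have hAm : gA ∈ LB := Subgroup.subset_closure (by simp)
  have hBm : gB ∈ LB := Subgroup.subset_closure (by simp)
  have h5 := ker_card (le_of hy x_mem_LB) hcardR (fun g hg => hL.iso g (hle hg)) hx hneg hcomm
    (φ.comp (Subgroup.inclusion hle)) fun g i => hφ (Subgroup.inclusion hle g) i
  have h6 : 60 ≤ Nat.card (φ.comp (Subgroup.inclusion hle)).range := by
    apply card_ge
    · refine ⟨⟨gA, hAm⟩, ?_⟩
      ext i
      exact congrArg Fin.val ((hφ ⟨gA, hL.memA⟩ i).unique (P_A i))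
    · refine ⟨⟨gB, hBm⟩, ?_⟩
      ext i
      exact congrArg Fin.val ((hφ ⟨gB, hB⟩ i).unique (P_B i))
  exact (Subgroup.eq_of_le_of_card_ge hle (by rw [hcard, h5]; omega)).symm

/-- **(M4)** -/
theorem stM4 : StM4 := by
  intro L R hL hRL hn hcardR hneg hsq hcomm _ hh
  have hx := all_mem (fun r hr => hn gA hL.memA r hr) (first hL hRL hn hcardR hneg hsq hcomm hh)
  have hy := eq_y hcardR hneg hx
  exact ⟨case160 hL.memA hRL hcardR hx hy, case1920 hL hRL hn hcardR hneg hcomm hx hy⟩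

end Cfsg.Agent.H29.Q5M
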